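import Cfsg.Agent.Omega.EH3.TwoC.Basic
import Cfsg.Agent.Mrg.Omega.EH3.TCL.Form

section


/-!
# THEOREM 2C (helper465, OMEGA #12780): the end (helper316)

If every pair `(a, c)` (`a, c ∈ O`, `b a c = 1`) has a common nonzero fixed vector `j` of `X a` and `X c`, then
`j` does not depend on the pair, so `H` fixes it.
-/

set_option autoImplicit false

namespace Cfsg.Agent.Omega.EH3.TwoC

open Cfsg.Agent.LargeExtra.SiegFam Cfsg.Agent.LargeExtra.SiegFam.Lin

variable {V : Type*} [AddCommGroup V] [Module (ZMod 2) V]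
  {q : V → ZMod 2} {b : LinearMap.BilinForm (ZMod 2) V}
  {H : Subgroup (V ≃ₗ[ZMod 2] V)} {O : Set V} {W : V → Submodule (ZMod 2) V}
  {X : V → Subgroup (V ≃ₗ[ZMod 2] V)} {a c : V}

namespace LF

theorem C_add {v w : V} (h : IsC X a v) (h' : IsC X a w) : IsC X a (v + w) := by
  intro x hx
  rw [map_add, h x hx, h' x hx]

/-- `C_a ≤ a^⊥` -/
theorem C_perp (F : LF q b H O W X) (hT : TNe b O X) (ha : a ∈ O) {v : V} (hv : IsC X a v) :
    b a v = 0 := by
  rcases zm (b a v) with h | h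
  · exact h
  · exfalso
    obtain ⟨x, hx, y, hy, z, hz, h1⟩ := hT a ha v h
    have h2 : x = 1 := by
      apply F.inj a ha x hx v h
      rw [hv x hx, add_self]
      exact (W a).zero_mem
    rw [h2, F.T_one ha hy hz] at h1
    exact absurd h1 (by decide)

theorem C_N (F : LF q b H O W X) (hT : TNe b O X) (ha : a ∈ O) {v : V} (hv : IsC X a v) : IsN b X a v :=
  ⟨F.C_perp hT ha hv, fun x hx => Or.inl (hv x hx)⟩

/-- `C_a ∩ W_a = ⟨a⟩` -/
theorem C_W (F : LF q b H O W X) (ha : a ∈ O) {v : V} (hv : IsC X a v) (hw : v ∈ W a) :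
    v = 0 ∨ v = a := by
  by_contra hcon
  rw [not_or] at hcon
  obtain ⟨x, hx, h1⟩ := F.exists_move ha hw hcon.1 hcon.2
  rw [hv x hx] at h1
  apply F.zero a ha
  have h2 : v + 0 = v + a := by rw [add_zero, ← h1]
  exact (add_left_cancel h2).symm

/-- `|C_a| ≤ 4` -/
theorem C_four (F : LF q b H O W X) (hT : TNe b O X) (h2 : Two q b O X) (ha : a ∈ O) {v v' : V}
    (hv : IsC X a v) (h0 : v ≠ 0) (h1 : v ≠ a) (hv' : IsC X a v') :
    v' = 0 ∨ v' = a ∨ v' = v ∨ v' = v + a := by
  by_cases k0 : v' = 0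
  · exact Or.inl k0
  by_cases k1 : v' = a
  · exact Or.inr (Or.inl k1)
  right; right
  obtain ⟨r, w, hr, hw, e⟩ := F.exists_R_add_W ha (F.C_N hT ha hv)
  obtain ⟨r', w', hr', hw', e'⟩ := F.exists_R_add_W ha (F.C_N hT ha hv')
  have key : ∀ {v r w : V}, IsC X a v → v ≠ 0 → v ≠ a → w ∈ W a → v = r + w → r ≠ 0 ∧ r ≠ a := by
    intro v r w hv h0 h1 hw e
    constructor
    · rintro rfl
      rw [zero_add] at e
      rcases F.C_W ha hv (by rw [e]; exact hw) with h | h
      · exact h0 h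
      · exact h1 h
    · intro hra
      rcases F.C_W ha hv (by rw [e, hra]; exact (W a).add_mem (F.self_W a ha) hw) with h | h
      · exact h0 h
      · exact h1 h
  obtain ⟨r0, r1⟩ := key hv h0 h1 hw e
  obtain ⟨r0', r1'⟩ := key hv' k0 k1 hw' e'
  have h3 : v' + v ∈ W a := by
    rcases h2 a ha r r' hr hr' r0 r1 r0' r1' with h | h
    · have e2 : v' + v = w' + w := by rw [e, e', h]; vec2
      rw [e2]
      exact (W a).add_mem hw' hw
    · have e2 : v' + v = a + (w' + w) := by rw [e, e', h]; vec2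
      rw [e2]
      exact (W a).add_mem (F.self_W a ha) ((W a).add_mem hw' hw)
  rcases F.C_W ha (C_add hv' hv) h3 with h4 | h4
  · left; exact eq_of_add h4
  · right
    rw [← h4]; vec2

/-- the intersection `C_a ∩ C_c` for a pair -/
theorem C_uniq (F : LF q b H O W X) (hT : TNe b O X) (h2 : Two q b O X) (ha : a ∈ O) (hc : c ∈ O)
    (hac : b a c = 1) {j j' : V} (h0 : j ≠ 0) (h0' : j' ≠ 0) (hj : IsC X a j) (hj' : IsC X a j')
    (kj : IsC X c j) (kj' : IsC X c j') : j' = j := by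
  have hca : b c a = 1 := by rw [F.comm]; exact hac
  have p1 := F.C_perp hT hc kj
  have p2 := F.C_perp hT hc kj'
  have ne : j ≠ a := by
    rintro rfl
    rw [p1] at hca
    exact absurd hca (by decide)
  rcases F.C_four hT h2 ha hj h0 ne hj' with h | h | h | h
  · exact absurd h h0'
  · rw [h, hca] at p2
    exact absurd p2 (by decide)
  · exact h
  · rw [h, map_add, p1, hca] at p2
    exact absurd p2 (by decide)

/-- the key step: `b c c' = 0` -/
theorem pair_perp (F : LF q b H O W X) (hT : TNe b O X) (h2 : Two q b O X)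
    (hC : ∀ a ∈ O, ∀ c ∈ O, b a c = 1 → ∃ j, j ≠ 0 ∧ IsC X a j ∧ IsC X c j) (ha : a ∈ O) (hc : c ∈ O)
    {c' : V} (hc' : c' ∈ O) (hac : b a c = 1) (hac' : b a c' = 1) {j : V} (h0 : j ≠ 0)
    (hja : IsC X a j) (hjc : IsC X c j) (hjc' : IsC X c' (j + a)) : b c c' = 0 := by
  rcases zm (b c c') with h | h
  · exact h
  exfalso
  obtain ⟨k, k0, kc, kc'⟩ := hC c hc c' hc' h
  have hca : b c a = 1 := by rw [F.comm]; exact hac
  have hca' : b c' a = 1 := by rw [F.comm]; exact hac'
  have hcc : b c' c = 1 := by rw [F.comm]; exact h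
  have paj := F.C_perp hT ha hja
  have pcj := F.C_perp hT hc hjc
  have pcj' := F.C_perp hT hc' hjc'
  have saa := F.self a
  have scc := F.self c
  have scc' := F.self c'
  have z1 : (1 : ZMod 2) ≠ 0 := by decide
  have jc : j ≠ c := by
    intro e; rw [e, hac] at paj; exact z1 paj
  have j'0 : j + a ≠ 0 := by
    intro e
    have := congrArg (fun v => b c v) e
    simp only [map_add, pcj, hca, map_zero, zero_add] at this
    exact z1 this
  have j'c : j + a ≠ c' := by
    intro e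
    have h3 : b a (j + a) = 0 := by rw [map_add, paj, saa]; rfl
    rw [e, hac'] at h3
    exact z1 h3
  rcases F.C_four hT h2 hc hjc h0 jc kc with h1 | h1 | h1 | h1
  · exact k0 h1
  · rcases F.C_four hT h2 hc' hjc' j'0 j'c kc' with h3 | h3 | h3 | h3
    · exact k0 h3
    · rw [← h1, h3, scc'] at h; exact z1 h.symm
    · have h4 : b a k = 0 := by rw [h3, map_add, paj, saa]; rfl
      rw [h1, hac] at h4; exact z1 h4
    · have h4 : b c' k = 0 := by rw [h3, map_add, pcj', scc']; rfl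
      rw [h1, hcc] at h4; exact z1 h4
  · rcases F.C_four hT h2 hc' hjc' j'0 j'c kc' with h3 | h3 | h3 | h3
    · exact k0 h3
    · rw [← h1, h3, hac'] at paj; exact z1 paj
    · rw [h1] at h3
      apply F.zero a ha
      have h4 : j + 0 = j + a := by rw [add_zero]; exact h3
      exact (add_left_cancel h4).symm
    · have h4 : b a k = 1 := by rw [h3, map_add, map_add, paj, saa, hac']; rfl
      rw [h1, paj] at h4; exact z1 h4.symm
  · rcases F.C_four hT h2 hc' hjc' j'0 j'c kc' with h3 | h3 | h3 | h3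
    · exact k0 h3
    · have h4 : b c k = 0 := by rw [h1, map_add, pcj, scc]; rfl
      rw [h3, h] at h4; exact z1 h4
    · have h4 : b a k = 1 := by rw [h1, map_add, paj, hac]; rfl
      rw [h3, map_add, paj, saa] at h4
      exact z1 (h4.symm.trans (by decide))
    · have h4 : c + c' = a := by
        have h5 : j + c = j + a + c' := by rw [← h1, h3]
        have h6 : c = a + c' := by
          rw [add_assoc] at h5
          exact add_left_cancel h5
        rw [h6]; vec2
      have h5 := F.q_add c c'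
      rw [h4, F.q_a ha, F.q_a hc, F.q_a hc', h] at h5
      exact absurd h5 (by decide)

/-- `j` is the same for all partners of `a` -/
theorem pair_same (F : LF q b H O W X) (hT : TNe b O X) (h2 : Two q b O X)
    (hC : ∀ a ∈ O, ∀ c ∈ O, b a c = 1 → ∃ j, j ≠ 0 ∧ IsC X a j ∧ IsC X c j) (ha : a ∈ O) (hc : c ∈ O)
    {c' : V} (hc' : c' ∈ O) (hac : b a c = 1) (hac' : b a c' = 1) {j j' : V} (h0 : j ≠ 0) (h0' : j' ≠ 0)
    (hja : IsC X a j) (hjc : IsC X c j) (hja' : IsC X a j') (hjc' : IsC X c' j') : j' = j := by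
  have z1 : (1 : ZMod 2) ≠ 0 := by decide
  have hca : b c a = 1 := by rw [F.comm]; exact hac
  have hca' : b c' a = 1 := by rw [F.comm]; exact hac'
  have pcj := F.C_perp hT hc hjc
  have pcj' := F.C_perp hT hc' hjc'
  have ne : j ≠ a := by
    rintro rfl
    rw [pcj] at hca
    exact z1 hca.symm
  have ne' : j' ≠ a := by
    rintro rfl
    rw [pcj'] at hca'
    exact z1 hca'.symm
  rcases F.C_four hT h2 ha hja h0 ne hja' with h | h | h | h
  · exact absurd h h0'
  · exact absurd h ne'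
  · exact h
  exfalso
  rw [h] at hjc'
  -- `c'` is perpendicular to `X a c`
  have key : ∀ x ∈ X a, b (x c) c' = 0 := by
    intro x hx
    have hxH := F.X_H a ha x hx
    apply F.pair_perp hT h2 hC ha (F.stable x hxH c hc) hc' (by rw [F.a_X ha hx, hac]) hac' h0 hja _ hjc'
    have h3 := F.C_map hc hxH hjc
    rwa [hja x hx] at h3
  obtain ⟨x, hx, y, hy, z, hz, hT1⟩ := hT a ha c hac
  have hw : y (x c + c) + (x c + c) ∈ W a := F.X_perp a ha y hy _ (F.s_perp ha hx c)
  have w0 : y (x c + c) + (x c + c) ≠ 0 := by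
    intro e
    rw [T, e, map_zero, LinearMap.zero_apply] at hT1
    exact z1 hT1.symm
  have wa : y (x c + c) + (x c + c) ≠ a := by
    intro e
    rw [T, e, F.s_perp ha hz] at hT1
    exact z1 hT1.symm
  obtain ⟨f, hf, hfw⟩ := F.exists_move ha hw w0 wa
  have k1 := key (y * x) ((X a).mul_mem hy hx)
  have k2 := key y hy
  have k3 := key x hx
  have k4 := key 1 (X a).one_mem
  have k5 := key (f * (y * x)) ((X a).mul_mem hf ((X a).mul_mem hy hx))
  have k6 := key (f * y) ((X a).mul_mem hf hy)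
  have k7 := key (f * x) ((X a).mul_mem hf hx)
  have k8 := key f hf
  simp only [mul_app, one_app] at k1 k2 k3 k4 k5 k6 k7 k8
  have e1 : b (f (y (x c + c) + (x c + c))) c' = 0 := by
    simp only [map_add, LinearMap.add_apply, k5, k6, k7, k8]
    rfl
  have e2 : b (y (x c + c) + (x c + c)) c' = 0 := by
    simp only [map_add, LinearMap.add_apply, k1, k2, k3, k4]
    rfl
  rw [hfw, map_add, LinearMap.add_apply, e2, hac'] at e1
  exact absurd e1 (by decide)

/-- the common vector of a pair -/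
def J (b : LinearMap.BilinForm (ZMod 2) V) (O : Set V) (X : V → Subgroup (V ≃ₗ[ZMod 2] V)) (a j : V) :
    Prop := ∃ c ∈ O, b a c = 1 ∧ j ≠ 0 ∧ IsC X a j ∧ IsC X c j

theorem J_pair (F : LF q b H O W X) (hT : TNe b O X) (h2 : Two q b O X)
    (hC : ∀ a ∈ O, ∀ c ∈ O, b a c = 1 → ∃ j, j ≠ 0 ∧ IsC X a j ∧ IsC X c j) (ha : a ∈ O) (hc : c ∈ O)
    (hac : b a c = 1) {j : V} (hj : J b O X a j) : J b O X c j ∧ IsC X c j := by
  obtain ⟨c', hc', h1, h3, h4, h5⟩ := hj
  obtain ⟨k, k0, ka, kc⟩ := hC a ha c hc hac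
  have e := F.pair_same hT h2 hC ha hc hc' hac h1 k0 h3 ka kc h4 h5
  rw [e]
  exact ⟨⟨a, ha, by rw [F.comm]; exact hac, k0, kc, ka⟩, kc⟩

theorem J_uniq (F : LF q b H O W X) (hT : TNe b O X) (h2 : Two q b O X)
    (hC : ∀ a ∈ O, ∀ c ∈ O, b a c = 1 → ∃ j, j ≠ 0 ∧ IsC X a j ∧ IsC X c j) (ha : a ∈ O)
    {j j' : V} (hj : J b O X a j) (hj' : J b O X a j') : j' = j := by
  obtain ⟨c, hc, h1, h3, h4, h5⟩ := hj
  obtain ⟨c', hc', h1', h3', h4', h5'⟩ := hj'
  exact F.pair_same hT h2 hC ha hc hc' h1 h1' h3 h3' h4 h5 h4' h5'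

/-- a singular point `t ∈ O` perpendicular to all points with `J · j` is fixed by `X a` -/
theorem C_of_perp (F : LF q b H O W X) (hT : TNe b O X) (h2 : Two q b O X)
    (hC : ∀ a ∈ O, ∀ c ∈ O, b a c = 1 → ∃ j, j ≠ 0 ∧ IsC X a j ∧ IsC X c j) (ha : a ∈ O) {j : V}
    (hj : J b O X a j) {t : V} (ht : ∀ o ∈ O, J b O X o j → b t o = 0) : IsC X a t := by
  intro x hx
  obtain ⟨c, hc, hac⟩ := F.nbr a ha
  have hat : b a t = 0 := by rw [F.comm]; exact ht a ha hj
  have hw := F.X_perp a ha x hx t hat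
  have orb : ∀ y ∈ X a, b t (y c) = 0 := by
    intro y hy
    have hyH := F.X_H a ha y hy
    have h3 : b a (y c) = 1 := by rw [F.a_X ha hy, hac]
    exact ht _ (F.stable y hyH c hc) (F.J_pair hT h2 hC ha (F.stable y hyH c hc) h3 hj).1
  have tc : b t c = 0 := orb 1 (X a).one_mem
  have hxc : b (x t + t) c = 0 := by
    rw [map_add, LinearMap.add_apply, F.b_X ha hx, orb x hx, tc]; rfl
  have h3 : x t + t = 0 ∨ x t + t = a := by
    apply F.eq_of_perp ha
    intro v hv
    obtain ⟨y, hy, hyw⟩ := F.surj a ha c hac v hv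
    have h4 := F.b_W ha hw hyw
    have h5 : b (x t + t) (y c) = 0 := by
      have h6 := orb (x * y) ((X a).mul_mem hx hy)
      rw [mul_app] at h6
      rw [map_add, LinearMap.add_apply, F.b_X ha hx, h6, orb y hy]; rfl
    rw [map_add, map_add, h5, hxc] at h4
    simpa using h4
  rcases h3 with h3 | h3
  · exact eq_of_add h3
  · rw [h3, hac] at hxc
    exact absurd hxc (by decide)

/-- **the end of THEOREM 2C** -/
theorem end_false (F : LF q b H O W X) (hT : TNe b O X) (h2 : Two q b O X)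
    (hC : ∀ a ∈ O, ∀ c ∈ O, b a c = 1 → ∃ j, j ≠ 0 ∧ IsC X a j ∧ IsC X c j)
    (hfix : ∀ j, (∀ h ∈ H, h j = j) → j = 0) (ha : a ∈ O) : False := by
  obtain ⟨c, hc, hac⟩ := F.nbr a ha
  obtain ⟨j, j0, ja, jc⟩ := hC a ha c hc hac
  have hJa : J b O X a j := ⟨c, hc, hac, j0, ja, jc⟩
  have hJc := (F.J_pair hT h2 hC ha hc hac hJa).1
  -- all points
  have hall : ∀ t ∈ O, J b O X t j := by
    -- a point without `J t j` is `j`
    have key : ∀ t ∈ O, ¬ J b O X t j → t = j := by
      intro t ht hn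
      have hp : ∀ o ∈ O, J b O X o j → b t o = 0 := by
        intro o ho hJo
        rcases zm (b t o) with h | h
        · exact h
        · exact absurd (F.J_pair hT h2 hC ho ht (by rw [F.comm]; exact h) hJo).1 hn
      exact F.C_uniq hT h2 ha hc hac j0 (F.zero t ht) ja (F.C_of_perp hT h2 hC ha hJa hp) jc
        (F.C_of_perp hT h2 hC hc hJc hp)
    intro t ht
    by_contra hn
    obtain ⟨t', ht', htt⟩ := F.nbr t ht
    have hn' : ¬ J b O X t' j := fun h =>
      hn (F.J_pair hT h2 hC ht' ht (by rw [F.comm]; exact htt) h).1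
    rw [key t ht hn, key t' ht' hn', F.self] at htt
    exact absurd htt (by decide)
  apply j0
  apply hfix
  intro h hh
  have h3 : J b O X (h a) (h j) := by
    refine ⟨h c, F.stable h hh c hc, by rw [F.b_H hh]; exact hac, fun e => j0 ?_, F.C_map ha hh ja,
      F.C_map hc hh jc⟩
    have := congrArg (fun v => h⁻¹ v) e
    simpa only [app_inv, map_zero] using this
  exact F.J_uniq hT h2 hC (F.stable h hh a ha) (hall _ (F.stable h hh a ha)) h3

end LF

end Cfsg.Agent.Omega.EH3.TwoC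

end

section


/-!
# THEOREM 2C: the two forms of the linear setting (helper465)

`TFam.lf : TFam → LF` (helper330's structure); `main_of`: THEOREM 2C from case (S).
-/

set_option autoImplicit false

namespace Cfsg.Agent.Omega.EH3.TCL

open Module Cfsg.Agent.LargeExtra.SiegFam Cfsg.Agent.LargeExtra.SiegFam.Lin
open Cfsg.Agent.Omega.EH3.TwoC (LF IsR IsN IsC TNe Two)

variable {V : Type*} [AddCommGroup V] [Module (ZMod 2) V]
variable {q : V → ZMod 2} {b : LinearMap.BilinForm (ZMod 2) V} {H : Subgroup (V ≃ₗ[ZMod 2] V)} {O : Set V}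
  {W : V → Submodule (ZMod 2) V} {X : V → Subgroup (V ≃ₗ[ZMod 2] V)}

/-- the statement of case (S) -/
def CaseSProp (q : V → ZMod 2) (b : LinearMap.BilinForm (ZMod 2) V) (O : Set V)
    (W : V → Submodule (ZMod 2) V) (X : V → Subgroup (V ≃ₗ[ZMod 2] V)) : Prop :=
  TNe b O X → Two q b O X → (∀ a ∈ O, ∀ r, IsR q b X a r → q r = 0) →
    (∀ a ∈ O, ∃ r, IsR q b X a r ∧ r ≠ 0 ∧ r ≠ a) →
    (∀ a ∈ O, ∀ c ∈ O, b a c = 1 → ∀ v, IsR q b X c v → b a v = 0 → v ≠ 0 → ¬ IsN b X a v) →
    (∀ a ∈ O, ∀ c ∈ O, b a c = 1 → ∀ v, IsR q b X c v → b a v = 0 → v ≠ 0 →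
      ∀ f ∈ X a, f v = v → f ≠ 1 → f c + c + v ∈ W a) →
    (∀ a ∈ O, ∀ c ∈ O, b a c = 1 → ∀ v, IsR q b X c v → b a v = 0 → v ≠ 0 →
      ∀ r, IsR q b X a r → r ≠ 0 → r ≠ a → b v r = 1) →
    ∀ a ∈ O, ∀ c ∈ O, b a c = 1 → ∃ j, j ≠ 0 ∧ IsC X a j ∧ IsC X c j

namespace TFam

theorem nbr (F : TFam q b H O W X) {a : V} (ha : a ∈ O) : ∃ c ∈ O, b a c = 1 := by
  by_contra h2
  push Not at h2
  apply F.zero a ha
  apply F.span
  intro c hc
  rw [F.comm]
  rcases zm (b a c) with h3 | h3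
  · exact h3
  · exact absurd h3 (h2 c hc)

theorem lf (F : TFam q b H O W X) : LF q b H O W X where
  alt := F.alt
  q_add := F.q_add
  q_H := F.q_H
  zero := F.zero
  stable := F.stable
  trans := F.trans
  nbr := fun _ ha => F.nbr ha
  self_W := F.self_W
  q_W := F.q_W
  W_map := F.W_map
  X_map := F.X_map
  X_H := fun a ha _ hx => F.X_le a ha hx
  X_a := F.X_fix
  X_sq := F.X_sq
  X_comm := F.X_comm
  X_perp := F.X_perp
  X_W := F.X_W
  inj := F.inj
  surj := F.surj

theorem tne (F : TFam q b H O W X) (hT : ∀ a ∈ O, ∃ x ∈ X a, ¬ XS b X a x) : TNe b O X := by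
  intro a ha c hc
  obtain ⟨x, hx, h1⟩ := hT a ha
  obtain ⟨y, hy, z, hz, h2⟩ := F.exists_tri ha hx hc h1
  exact ⟨y, hy, x, hx, z, hz, h2⟩

theorem two_of_four (hF : ∀ a ∈ O, ∃ r, Four q b X a r) : Two q b O X := by
  intro a ha r r' hr hr' r0 ra r0' ra'
  obtain ⟨s, -, -, -, hs⟩ := hF a ha
  rcases hs r hr with h | h | h | h
  · exact absurd h r0
  · exact absurd h ra
  · rcases hs r' hr' with h' | h' | h' | h'
    · exact absurd h' r0'
    · exact absurd h' ra'
    · left; rw [h, h']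
    · right; rw [h, h']
  · rcases hs r' hr' with h' | h' | h' | h'
    · exact absurd h' r0'
    · exact absurd h' ra'
    · right; rw [h, h']; v2
    · left; rw [h, h']

/-- no vector is fixed by `H` -/
theorem no_fix (F : TFam q b H O W X) (hT : ∀ a ∈ O, ∃ x ∈ X a, ¬ XS b X a x) :
    ∀ j, (∀ h ∈ H, h j = j) → j = 0 := by
  intro j hj
  apply F.span
  intro a ha
  exact F.lf.C_perp (F.tne hT) ha fun x hx => hj x (F.X_le a ha hx)

/-- transitivity -/
theorem all_T (F : TFam q b H O W X) {a : V} (ha : a ∈ O) (h : ∃ x ∈ X a, ¬ XS b X a x) :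
    ∀ a ∈ O, ∃ x ∈ X a, ¬ XS b X a x := by
  intro a' ha'
  obtain ⟨g, hg, rfl⟩ := F.trans a ha a' ha'
  obtain ⟨x, hx, h1⟩ := h
  refine ⟨g * x * g⁻¹, F.X_map g hg a ha x hx, fun h2 => h1 ?_⟩
  have h3 := F.XS_map (H.inv_mem hg) (F.stable g hg a ha) h2
  rw [app_inv] at h3
  have e : g⁻¹ * (g * x * g⁻¹) * g⁻¹⁻¹ = x := by group
  rwa [e] at h3

theorem all_R (F : TFam q b H O W X) {a : V} (ha : a ∈ O) (h : ∃ r, RR q b X a r ∧ r ≠ 0 ∧ r ≠ a) :
    ∀ a ∈ O, ∃ r, RR q b X a r ∧ r ≠ 0 ∧ r ≠ a := by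
  intro a' ha'
  obtain ⟨g, hg, rfl⟩ := F.trans a ha a' ha'
  obtain ⟨r, hr, h1, h2⟩ := h
  exact ⟨g r, F.RR_map hg ha hr, fun h3 => h1 (g.map_eq_zero_iff.1 h3), fun h3 => h2 (g.injective h3)⟩

/-- **THEOREM 2C, linear form**: `RR a = {0, a}` -/
theorem main_of (F : TFam q b H O W X) (hS : CaseSProp q b O W X)
    (hT : ∀ a ∈ O, ∃ x ∈ X a, ¬ XS b X a x) {a : V} (ha : a ∈ O) {r : V} (hr : RR q b X a r) :
    r = 0 ∨ r = a := by
  by_contra hcon
  rw [not_or] at hcon
  have hR := F.all_R ha ⟨r, hr, hcon.1, hcon.2⟩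
  have hC : (∀ a ∈ O, ∃ r, Four q b X a r) ∧
      ∀ a ∈ O, ∀ c ∈ O, b a c = 1 → ∃ j, j ≠ 0 ∧ (∀ x ∈ X a, x j = j) ∧ ∀ y ∈ X c, y j = j := by
    rcases F.dich hT hR with h | h
    · have hF : ∀ a ∈ O, ∃ r, Four q b X a r := fun a ha => by
        obtain ⟨r, h1, -⟩ := h a ha
        exact ⟨r, h1⟩
      have hq : ∀ a ∈ O, ∀ s, RR q b X a s → q s = 0 := by
        intro a ha s hs
        obtain ⟨r, h1, h2, h3⟩ := h a ha
        rcases h1.2.2.2 s hs with h4 | h4 | h4 | h4
        · rw [h4]; exact F.q_zero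
        · rw [h4]; exact F.q_self ha
        · rw [h4]; exact h2
        · rw [h4, F.q_add, h2, F.q_self ha, F.comm, h3]; decide
      refine ⟨hF, hS (F.tne hT) (two_of_four hF) hq hR ?_ ?_ ?_⟩
      · intro a ha c hc hac v hv hav h0
        exact (F.K2 hT ha hc hac hv hav (hq c hc v hv) h0).2.2.1
      · intro a ha c hc hac v hv hav h0
        exact (F.K2 hT ha hc hac hv hav (hq c hc v hv) h0).2.1
      · intro a ha c hc hac v hv hav h0
        exact (F.K2 hT ha hc hac hv hav (hq c hc v hv) h0).2.2.2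
    · exact F.case_N hT hR h
  exact F.lf.end_false (F.tne hT) (two_of_four hC.1) hC.2 (F.no_fix hT) ha

section out

variable {a v : V} {x : V ≃ₗ[ZMod 2] V}

/-- `NN a = W a` -/
theorem NN_W_of (F : TFam q b H O W X) (h : ∀ a ∈ O, ∀ r, RR q b X a r → r = 0 ∨ r = a) (ha : a ∈ O)
    (hv : NN b X a v) : v ∈ W a := by
  obtain ⟨r, hr, hvr⟩ := F.NN_eq ha hv
  have e : v = (v + r) + r := by v2
  rw [e]
  refine (W a).add_mem hvr ?_
  rcases h a ha r hr with h1 | h1
  · rw [h1]; exact (W a).zero_mem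
  · rw [h1]; exact F.self_W a ha

/-- `W^⊥ ≤ W` -/
theorem orth_W_of (F : TFam q b H O W X) (h : ∀ a ∈ O, ∀ r, RR q b X a r → r = 0 ∨ r = a) (ha : a ∈ O)
    (hv : ∀ w ∈ W a, b v w = 0) : v ∈ W a := F.NN_W_of h ha (F.NN_orth ha hv)

/-- the Siegel elements of `X a` are trivial -/
theorem XS_of (F : TFam q b H O W X) (h : ∀ a ∈ O, ∀ r, RR q b X a r → r = 0 ∨ r = a) (ha : a ∈ O)
    (hx : XS b X a x) : x = 1 := by
  obtain ⟨c, -, hac⟩ := F.nbr ha
  apply F.inj a ha x hx.1 c hac
  rcases h a ha _ (F.RR_of_XS ha hx hac) with h1 | h1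
  · rw [h1]; exact (W a).zero_mem
  · rw [h1]; exact F.self_W a ha

/-- `C_V(X a) = {0, a}` -/
theorem fix_of (F : TFam q b H O W X) (h : ∀ a ∈ O, ∀ r, RR q b X a r → r = 0 ∨ r = a)
    (hT : ∀ a ∈ O, ∃ x ∈ X a, ¬ XS b X a x) (ha : a ∈ O) (hv : ∀ x ∈ X a, x v = v) : v = 0 ∨ v = a := by
  have h1 : b a v = 0 := F.lf.C_perp (F.tne hT) ha hv
  exact F.eq_of_fix_W ha (F.NN_W_of h ha ⟨h1, fun x hx => Or.inl (hv x hx)⟩) hv

/-- `2 dim W = dim V` -/
theorem finrank_of (F : TFam q b H O W X) (h : ∀ a ∈ O, ∀ r, RR q b X a r → r = 0 ∨ r = a) (ha : a ∈ O) :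
    2 * finrank (ZMod 2) (W a) = finrank (ZMod 2) V := by
  have hfin := F.alt.finDim
  have h1 : b.orthogonal (W a) ≤ W a := by
    intro v hv
    apply F.orth_W_of h ha
    intro w hw
    rw [F.comm]; exact mem_orth.1 hv w hw
  have h2 : W a ≤ b.orthogonal (W a) := by
    intro v hv
    rw [mem_orth]
    intro w hw
    exact F.b_W ha hw hv
  have h3 := F.alt.finrank_orth (W a)
  rw [le_antisymm h1 h2] at h3
  omega

end out

end TFam

end Cfsg.Agent.Omega.EH3.TCL

end

section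


/-!
# THEOREM 2C (helper465, OMEGA #12780): case (S) (helper316)

Case (S): every `R_a = {0, a, r, a + r}` is totally singular. Then for every pair `(a, c)` there is a vector
`j ≠ 0` fixed by `X a` and `X c`.
-/

set_option autoImplicit false

namespace Cfsg.Agent.Omega.EH3.TwoC

open Cfsg.Agent.LargeExtra.SiegFam Cfsg.Agent.LargeExtra.SiegFam.Lin

variable {V : Type*} [AddCommGroup V] [Module (ZMod 2) V]
  {q : V → ZMod 2} {b : LinearMap.BilinForm (ZMod 2) V}
  {H : Subgroup (V ≃ₗ[ZMod 2] V)} {O : Set V} {W : V → Submodule (ZMod 2) V}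
  {X : V → Subgroup (V ≃ₗ[ZMod 2] V)} {a c r v : V}

/-- the hypotheses of case (S) -/
structure SHyp (q : V → ZMod 2) (b : LinearMap.BilinForm (ZMod 2) V) (O : Set V)
    (W : V → Submodule (ZMod 2) V) (X : V → Subgroup (V ≃ₗ[ZMod 2] V)) : Prop where
  hT : TNe b O X
  h2 : Two q b O X
  hq : ∀ a ∈ O, ∀ r, IsR q b X a r → q r = 0
  k1 : ∀ a ∈ O, ∀ c ∈ O, b a c = 1 → ∀ v, IsR q b X c v → b a v = 0 → v ≠ 0 → ¬ IsN b X a v
  k2 : ∀ a ∈ O, ∀ c ∈ O, b a c = 1 → ∀ v, IsR q b X c v → b a v = 0 → v ≠ 0 →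
    ∀ f ∈ X a, f v = v → f ≠ 1 → f c + c + v ∈ W a
  k3 : ∀ a ∈ O, ∀ c ∈ O, b a c = 1 → ∀ v, IsR q b X c v → b a v = 0 → v ≠ 0 →
    ∀ r, IsR q b X a r → r ≠ 0 → r ≠ a → b v r = 1

/-- a pair `(a, c)` with `r ∈ R_a ∩ c^⊥`, `v ∈ R_c ∩ a^⊥` -/
structure Dat (q : V → ZMod 2) (b : LinearMap.BilinForm (ZMod 2) V) (O : Set V)
    (X : V → Subgroup (V ≃ₗ[ZMod 2] V)) (a c r v : V) : Prop where
  ha : a ∈ O
  hc : c ∈ O
  ac : b a c = 1
  hr : IsR q b X a r
  cr : b c r = 0
  r0 : r ≠ 0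
  hv : IsR q b X c v
  av : b a v = 0
  v0 : v ≠ 0

theorem one_ne : (1 : ZMod 2) ≠ 0 := by decide

theorem zero_ne : (0 : ZMod 2) ≠ 1 := by decide

namespace Dat

theorem symm (F : LF q b H O W X) (D : Dat q b O X a c r v) : Dat q b O X c a v r :=
  ⟨D.hc, D.ha, by rw [F.comm]; exact D.ac, D.hv, D.av, D.v0, D.hr, D.cr, D.r0⟩

theorem map (F : LF q b H O W X) (D : Dat q b O X a c r v) {h : V ≃ₗ[ZMod 2] V} (hh : h ∈ H) :
    Dat q b O X (h a) (h c) (h r) (h v) where
  ha := F.stable h hh a D.ha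
  hc := F.stable h hh c D.hc
  ac := by rw [F.b_H hh]; exact D.ac
  hr := F.R_map D.ha hh D.hr
  cr := by rw [F.b_H hh]; exact D.cr
  r0 := fun e => D.r0 (h.map_eq_zero_iff.1 e)
  hv := F.R_map D.hc hh D.hv
  av := by rw [F.b_H hh]; exact D.av
  v0 := fun e => D.v0 (h.map_eq_zero_iff.1 e)

theorem ca (F : LF q b H O W X) (D : Dat q b O X a c r v) : b c a = 1 := by
  rw [F.comm]; exact D.ac

theorem ra (F : LF q b H O W X) (D : Dat q b O X a c r v) : r ≠ a := by
  intro e
  have h1 := D.cr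
  rw [e, D.ca F] at h1
  exact one_ne h1

theorem vr (F : LF q b H O W X) (S : SHyp q b O W X) (D : Dat q b O X a c r v) : b v r = 1 :=
  S.k3 a D.ha c D.hc D.ac v D.hv D.av D.v0 r D.hr D.r0 (D.ra F)

theorem qr (S : SHyp q b O W X) (D : Dat q b O X a c r v) : q r = 0 := S.hq a D.ha r D.hr

theorem qv (S : SHyp q b O W X) (D : Dat q b O X a c r v) : q v = 0 := S.hq c D.hc v D.hv

theorem r_W (F : LF q b H O W X) (D : Dat q b O X a c r v) : r ∉ W a := by
  intro h
  rcases F.R_W D.ha D.hr h with h1 | h1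
  · exact D.r0 h1
  · exact D.ra F h1

theorem v_N (S : SHyp q b O W X) (D : Dat q b O X a c r v) : ¬ IsN b X a v :=
  S.k1 a D.ha c D.hc D.ac v D.hv D.av D.v0

end Dat

namespace LF

/-- `W^⊥ = W` -/
theorem W_of_perp (F : LF q b H O W X) (h2 : Two q b O X) (ha : a ∈ O) {v : V}
    (hv : ∀ w ∈ W a, b w v = 0) : v ∈ W a := by
  by_contra hcon
  have key : ∀ u, (∀ w ∈ W a, b w u = 0) → b u v = 0 := by
    intro u hu
    have nu : IsN b X a u := F.N_of_perp_W ha fun w hw => by rw [F.comm]; exact hu w hw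
    have nv : IsN b X a v := F.N_of_perp_W ha fun w hw => by rw [F.comm]; exact hv w hw
    obtain ⟨r, w, hr, hw, e⟩ := F.exists_R_add_W ha nu
    obtain ⟨r', w', hr', hw', e'⟩ := F.exists_R_add_W ha nv
    have n0 : r' ≠ 0 := by
      rintro rfl
      exact hcon (by rw [e', zero_add]; exact hw')
    have n1 : r' ≠ a := by
      rintro rfl
      exact hcon (by rw [e']; exact (W r').add_mem (F.self_W r' ha) hw')
    by_cases m0 : r = 0
    · rw [e, m0, zero_add]
      exact hv w hw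
    by_cases m1 : r = a
    · rw [e, m1]
      exact hv _ ((W a).add_mem (F.self_W a ha) hw)
    have h3 : u + v ∈ W a := by
      rcases h2 a ha r r' hr hr' m0 m1 n0 n1 with h | h
      · have e2 : u + v = w + w' := by rw [e, e', h]; vec2
        rw [e2]
        exact (W a).add_mem hw hw'
      · have e2 : u + v = a + (w + w') := by rw [e, e', h]; vec2
        rw [e2]
        exact (W a).add_mem (F.self_W a ha) ((W a).add_mem hw hw')
    have h4 := hv _ h3
    rw [map_add, LinearMap.add_apply, F.self v, add_zero] at h4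
    exact h4
  apply hcon
  rw [← F.alt.orth_orth (W a)]
  exact mem_orth.2 fun u hu => key u (mem_orth.1 hu)

/-- the Siegel element of `r ∈ R_a` -/
theorem exists_u (hr : IsR q b X a r) : ∃ u ∈ X a, ∀ y, u y = sg q b a r y := hr.2

/-- the element `x_v` -/
theorem exists_x (F : LF q b H O W X) (S : SHyp q b O W X) (D : Dat q b O X a c r v) :
    ∃ x ∈ X a, x c = c + v ∧ x v = v ∧ x r = r + a := by
  have ha := D.ha
  have hc := D.hc
  have hca := D.ca F
  have hvr := D.vr F S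
  have qr := D.qr S
  have qv := D.qv S
  have cv : b c v = 0 := D.hv.1
  have vc : b v c = 0 := by rw [F.comm]; exact cv
  obtain ⟨x, hx, hw⟩ := F.surj a ha c D.ac v D.av
  have hxH := F.X_H a ha x hx
  obtain ⟨w, hwdef⟩ : ∃ w, w = x c + c + v := ⟨_, rfl⟩
  rw [← hwdef] at hw
  have xc : x c = c + v + w := by rw [hwdef]; vec2
  have xv : x v = v + w + x w := by
    have h1 := F.X_sq a ha x hx c
    rw [xc, map_add, map_add, xc] at h1
    have h2 : x v = c + v + w + x v + x w + (c + v + w) + x w := by vec2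
    rw [h1] at h2
    rw [h2]; vec2
  obtain ⟨u, hu, hus⟩ := exists_u D.hr
  have uc : u c = c + r := by
    rw [hus, sg, F.comm r c, D.cr, D.ac, qr]; vec2
  have uv : u v = v + a := by
    rw [hus, sg, F.comm r v, hvr, D.av]; vec2
  have xr := (F.N_R ha D.hr).2 x hx
  have aself := F.self a
  rcases F.X_W a ha x hx w hw with xw | xw
  · -- `x v = v`
    have xv' : x v = v := by rw [xv, xw]; vec2
    have vw : b v w = 0 := by
      have h1 : b v (x c) = 0 := by rw [← F.b_X ha hx, xv', vc]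
      rw [xc, map_add, map_add, vc, F.self v] at h1
      simpa using h1
    have cw : b c w = 0 := by
      have h1 := F.q_X ha hx c
      rw [xc, F.q_add, F.q_add, F.q_a hc, qv, F.q_W a ha w hw, cv, map_add b, LinearMap.add_apply,
        vw] at h1
      simpa using h1
    obtain ⟨g, hg, hgs⟩ := exists_u D.hv
    have hgH := F.X_H c hc g hg
    have hH : x * g * x⁻¹ * g ∈ H := H.mul_mem (H.mul_mem (H.mul_mem hxH hgH) (H.inv_mem hxH)) hgH
    have qc := F.q_a hc
    have qxc : q (x c) = 0 := by rw [F.q_X ha hx, qc]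
    have vxc : b v (x c) = 0 := by rw [← F.b_X ha hx, xv', vc]
    have hs : ∀ y, (x * g * x⁻¹ * g) y = sg q b v (v + w) y := by
      intro y
      show x (g (x⁻¹ (g y))) = _
      rw [hgs (x⁻¹ (g y)), F.sg_conj hxH, inv_app, xv', hgs, sg_swap qxc qv, sg_swap qc qv,
        F.sg_add vxc vc]
      have e : x c + c = v + w := by rw [xc]; vec2
      rw [e]
    have qvw : q (v + w) = 0 := by rw [F.q_add, qv, F.q_W a ha w hw, vw]; rfl
    have ha' : (x * g * x⁻¹ * g) a = a := by
      rw [hs, sg, map_add b, LinearMap.add_apply, F.comm v a, D.av, F.W_a ha hw]; vec2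
    have hr' : (x * g * x⁻¹ * g) r = r + b w r • v + w := by
      rw [hs, sg, map_add b, LinearMap.add_apply, hvr, qvw]; vec2
    have hR := F.R_map ha hH D.hr
    rw [ha', hr'] at hR
    have hwr : b w r = 0 := by
      rcases zm (b w r) with h | h
      · exact h
      · exfalso
        apply D.v_N S
        rw [h, one_smul] at hR
        have h3 := F.N_R ha hR
        have h4 : IsN b X a (r + v) := N_of_add h3 (F.N_W ha hw)
        rw [add_comm] at h4
        exact N_of_add h4 (F.N_R ha D.hr)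
    rw [hwr, zero_smul, add_zero] at hR
    have hRw : IsR q b X a w := by
      have h3 := F.R_add hR D.hr
      have e : r + w + r = w := by vec2
      rwa [e] at h3
    have hw0 : w = 0 := by
      rcases F.R_W ha hRw hw with h | h
      · exact h
      · rw [h, hca] at cw
        exact absurd cw one_ne
    refine ⟨x, hx, by rw [xc, hw0, add_zero], xv', ?_⟩
    rcases xr with h | h
    · exfalso
      have h1 := F.b_X ha hx r c
      rw [h, xc, hw0, add_zero, map_add, F.comm r c, D.cr, F.comm r v, hvr] at h1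
      exact zero_ne h1
    · exact h
  · exfalso
    have xv' : x v = v + a := by rw [xv, xw]; vec2
    have fv : (x * u) v = v := by
      rw [mul_app, uv, map_add, xv', F.X_a a ha x hx]; vec2
    by_cases hf : x * u = 1
    · apply D.v_N S
      have h1 : x c = u c := by
        have h2 : x (u (u c)) = u c := by
          have := congrArg (fun f : V ≃ₗ[ZMod 2] V => f (u c)) hf
          exact this
        rw [F.X_sq a ha u hu] at h2
        exact h2
      have h2 : v = w + r := by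
        rw [hwdef, h1, uc]; vec2
      rw [h2]
      exact N_add (F.N_W ha hw) (F.N_R ha D.hr)
    · have h1 := S.k2 a ha c hc D.ac v D.hv D.av D.v0 (x * u) ((X a).mul_mem hx hu) fv hf
      have h2 : (x * u) c + c + v = w + x r := by
        rw [mul_app, uc, map_add, hwdef]; vec2
      rw [h2] at h1
      have h3 : x r ∈ W a := by
        have := (W a).add_mem hw h1
        have e : w + (w + x r) = x r := by vec2
        rwa [e] at this
      apply D.r_W F
      rcases xr with h | h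
      · rwa [h] at h3
      · rw [h] at h3
        have := (W a).add_mem h3 (F.self_W a ha)
        rwa [add_add'] at this

/-- the space `C_V(X_a)` has order 4: a fixed vector of `X a` perpendicular to `a, r, c, v` -/
theorem exists_j (F : LF q b H O W X) (S : SHyp q b O W X) (D : Dat q b O X a c r v) :
    ∃ j, j ≠ 0 ∧ IsC X a j ∧ b a j = 0 ∧ b r j = 0 ∧ b c j = 0 ∧ b v j = 0 := by
  have ha := D.ha
  have hc := D.hc
  have hca := D.ca F
  have hvr := D.vr F S
  have qr := D.qr S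
  obtain ⟨x, hx, xc, xv, xr⟩ := F.exists_x S D
  obtain ⟨u, hu, hus⟩ := exists_u D.hr
  have uc : u c = c + r := by
    rw [hus, sg, F.comm r c, D.cr, D.ac, qr]; vec2
  have NR := F.N_R ha D.hr
  -- `b r s_{yz} = b r s_y + b r s_z`
  have add : ∀ e, IsN b X a e → ∀ y ∈ X a, ∀ z ∈ X a,
      b e ((y * z) c + c) = b e (y c + c) + b e (z c + c) := by
    intro e he y hy z hz
    rw [F.s_mul ha hy hz, map_add, ← F.b_X ha hz]
    rcases he.2 z hz with h | h
    · rw [h]
    · rw [h, map_add b, LinearMap.add_apply, F.s_perp ha hy, add_zero]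
  have sW : ∀ y ∈ X a, ∀ z ∈ X a, (y * z) c + c + (y c + c) + (z c + c) ∈ W a := by
    intro y hy z hz
    rw [F.s_mul ha hy hz]
    have e : z (y c + c) + (z c + c) + (y c + c) + (z c + c) = z (y c + c) + (y c + c) := by vec2
    rw [e]
    exact F.X_perp a ha z hz _ (F.s_perp ha hy c)
  let M : Submodule (ZMod 2) V :=
    { carrier := {t | ∃ y ∈ X a, y c + c + t ∈ W a ∧ b r (y c + c) = 0}
      zero_mem' := ⟨1, (X a).one_mem, by
        rw [one_app, Lin.add_self, zero_add]; exact (W a).zero_mem, by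
        rw [one_app, Lin.add_self, map_zero]⟩
      add_mem' := by
        rintro t t' ⟨y, hy, h1, h2⟩ ⟨z, hz, h3, h4⟩
        refine ⟨y * z, (X a).mul_mem hy hz, ?_, by rw [add r NR y hy z hz, h2, h4]; rfl⟩
        have h5 := (W a).add_mem ((W a).add_mem (sW y hy z hz) h1) h3
        have e : (y * z) c + c + (y c + c) + (z c + c) + (y c + c + t) + (z c + c + t') =
          (y * z) c + c + (t + t') := by vec2
        rwa [e] at h5
      smul_mem' := by
        rintro k t ⟨y, hy, h1, h2⟩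
        rcases zm k with rfl | rfl
        · refine ⟨1, (X a).one_mem, ?_, ?_⟩
          · rw [one_app, zero_smul, Lin.add_self, zero_add]; exact (W a).zero_mem
          · rw [one_app, Lin.add_self, map_zero]
        · exact ⟨y, hy, by rwa [one_smul], h2⟩ }
  have mM : ∀ y ∈ X a, b r (y c + c) = 0 → y c + c ∈ M := fun y hy h =>
    ⟨y, hy, by rw [Lin.add_self]; exact (W a).zero_mem, h⟩
  have WM : ∀ w ∈ W a, w ∈ M := fun w hw =>
    ⟨1, (X a).one_mem, by rw [one_app, Lin.add_self, zero_add]; exact hw, by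
      rw [one_app, Lin.add_self, map_zero]⟩
  have vM : v ∉ M := by
    rintro ⟨y, hy, h1, h2⟩
    have h3 : y * x = 1 := by
      apply F.inj a ha _ ((X a).mul_mem hy hx) c D.ac
      have h4 := (W a).add_mem (sW y hy x hx) h1
      have e : (y * x) c + c + (y c + c) + (x c + c) + (y c + c + v) = (y * x) c + c := by
        rw [xc]; vec2
      rwa [e] at h4
    have h4 : y c = x c := by
      have h5 : y (x (x c)) = x c := congrArg (fun f : V ≃ₗ[ZMod 2] V => f (x c)) h3
      rw [F.X_sq a ha x hx] at h5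
      exact h5
    have h5 : y c + c = v := by rw [h4, xc]; vec2
    rw [h5, F.comm, hvr] at h2
    exact one_ne h2
  -- a vector of `M^⊥` outside `⟨a⟩`
  obtain ⟨e, heM, e0, ea⟩ : ∃ e, (∀ m ∈ M, b m e = 0) ∧ e ≠ 0 ∧ e ≠ a := by
    by_contra hcon
    push Not at hcon
    apply vM
    rw [← F.alt.orth_orth M]
    refine mem_orth.2 fun e he => ?_
    by_cases h0 : e = 0
    · rw [h0, map_zero, LinearMap.zero_apply]
    · rw [hcon e (mem_orth.1 he) h0]
      exact D.av
  have eW : e ∈ W a := F.W_of_perp S.h2 ha fun w hw => heM w (WM w hw)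
  have Ne := F.N_W ha eW
  have key : ∀ y ∈ X a, b e (y c + c) = b r (y c + c) := by
    intro y hy
    rcases zm (b r (y c + c)) with h | h
    · rw [h, F.comm]
      exact heM _ (mM y hy h)
    · rw [h]
      rcases zm (b e (y c + c)) with h3 | h3
      · exfalso
        have h4 : e = 0 ∨ e = a := by
          apply F.eq_of_perp ha
          intro t ht
          obtain ⟨z, hz, hzw⟩ := F.surj a ha c D.ac t ht
          have h5 := F.b_W ha eW hzw
          have h6 : b e (z c + c) = 0 := by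
            rcases zm (b r (z c + c)) with h7 | h7
            · rw [F.comm]
              exact heM _ (mM z hz h7)
            · have h8 : b r ((y * z) c + c) = 0 := by rw [add r NR y hy z hz, h, h7]; rfl
              have h9 := heM _ (mM _ ((X a).mul_mem hy hz) h8)
              rw [F.comm, add e Ne y hy z hz, h3, zero_add] at h9
              exact h9
          rw [map_add, h6, zero_add] at h5
          exact h5
        rcases h4 with h4 | h4
        · exact e0 h4
        · exact ea h4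
      · exact h3
  have hC : IsC X a (r + e) := by
    intro y hy
    have hN : IsN b X a (r + e) := N_add NR Ne
    have h1 := F.X_val ha hy D.ac (hN.2 y hy)
    rw [map_add b, LinearMap.add_apply, key y hy, zadd, zero_smul, add_zero] at h1
    exact h1
  have n0 : r + e ≠ 0 := fun h => D.r_W F (by rw [eq_of_add h]; exact eW)
  have na : r + e ≠ a := fun h => D.r_W F (by
    have h1 : r = a + e := by rw [← h]; vec2
    rw [h1]
    exact (W a).add_mem (F.self_W a ha) eW)
  -- adjust by `a`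
  obtain ⟨j, j0, hj, hcj⟩ : ∃ j, j ≠ 0 ∧ IsC X a j ∧ b c j = 0 := by
    rcases zm (b c (r + e)) with h | h
    · exact ⟨r + e, n0, hC, h⟩
    · refine ⟨r + e + a, fun h1 => na (eq_of_add h1), C_add hC (fun y hy => F.X_a a ha y hy), ?_⟩
      rw [map_add, h, hca]; rfl
  refine ⟨j, j0, hj, F.C_perp S.hT ha hj, ?_, hcj, ?_⟩
  · have h1 : b j (u c + c) = 0 := by
      rw [map_add, ← F.b_X ha hu, hj u hu, zadd]
    have e1 : u c + c = r := by rw [uc]; vec2
    rw [e1, F.comm] at h1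
    exact h1
  · have h1 : b j (x c + c) = 0 := by
      rw [map_add, ← F.b_X ha hx, hj x hx, zadd]
    have e1 : x c + c = v := by rw [xc]; vec2
    rw [e1, F.comm] at h1
    exact h1

/-- `j ⊥ a, r, c, v` fixed by `X r` is fixed by `X (r + a)` -/
theorem C_move (F : LF q b H O W X) (S : SHyp q b O W X) (D : Dat q b O X a c r v) (hrO : r ∈ O) {j : V}
    (j0 : j ≠ 0) (aj : b a j = 0) (vj : b v j = 0) (hj : IsC X r j) : IsC X (r + a) j := by
  have ha := D.ha
  have hvr := D.vr F S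
  obtain ⟨x, hx, xc, xv, xr⟩ := F.exists_x S D
  have hxH := F.X_H a ha x hx
  have jr : j ≠ r := by
    rintro rfl
    rw [hvr] at vj
    exact one_ne vj
  have hfix : ∀ f ∈ X a, f r = r → f j = j := by
    intro f hf hfr
    have hfH := F.X_H a ha f hf
    have h1 := F.C_map hrO hfH hj
    rw [hfr] at h1
    have hw := F.X_perp a ha f hf j aj
    rcases F.C_four S.hT S.h2 hrO hj j0 jr h1 with h | h | h | h
    · exact absurd (f.map_eq_zero_iff.1 h) j0
    · exfalso
      apply jr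
      apply f.injective
      rw [h, hfr]
    · exact h
    · exfalso
      apply D.r_W F
      rw [h] at hw
      have e : j + r + j = r := by vec2
      rwa [e] at hw
  obtain ⟨y, hy, hyw⟩ := F.surj a ha c D.ac j aj
  have NR := F.N_R ha D.hr
  have half : ∀ f ∈ X a, f r = r → ∀ z ∈ X a, T b c y f z = 0 := by
    intro f hf hfr z hz
    have e : y c + c = j + (y c + c + j) := by vec2
    have h1 : f (y c + c) + (y c + c) = f (y c + c + j) + (y c + c + j) := by
      nth_rewrite 1 [e]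
      nth_rewrite 4 [e]
      rw [map_add, hfix f hf hfr]; vec2
    rw [T, h1]
    rcases F.X_W a ha f hf _ hyw with h | h
    · rw [h, Lin.add_self, map_zero, LinearMap.zero_apply]
    · have e2 : y c + c + j + a + (y c + c + j) = a := by vec2
      rw [h, e2, F.s_perp ha hz]
  have full : ∀ f ∈ X a, ∀ z ∈ X a, T b c y f z = 0 := by
    intro f hf z hz
    by_cases h1 : f r = r
    · exact half f hf h1 z hz
    by_cases h2 : z r = r
    · rw [F.T_symm'' ha hy hf hz]
      exact half z hz h2 f hf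
    have h3 : f r = r + a := (NR.2 f hf).resolve_left h1
    have h4 : z r = r + a := (NR.2 z hz).resolve_left h2
    have h5 : (f * z) r = r := by
      rw [mul_app, h4, map_add, h3, F.X_a a ha f hf]; vec2
    have h6 := half (f * z) ((X a).mul_mem hf hz) h5 z hz
    have h7 : T b c y (f * z) z = T b c y f z + T b c y z z := by
      rw [F.T_mul' ha hy hf hz hz]
    rw [h7, F.T_self' ha hy hz, add_zero] at h6
    exact h6
  have hN : IsN b X a j := by
    have h1 := F.N_of_T ha D.ac hy full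
    have h2 := N_add h1 (F.N_W ha hyw)
    have e : y c + c + (y c + c + j) = j := by vec2
    rwa [e] at h2
  have hxj : x j = j := by
    have h1 := F.X_val ha hx D.ac (hN.2 x hx)
    have e : x c + c = v := by rw [xc]; vec2
    rw [e, F.comm, vj, zero_smul, add_zero] at h1
    exact h1
  have h1 := F.C_map hrO hxH hj
  rw [xr, hxj] at h1
  exact h1

/-- **case (S)** -/
theorem caseS_of (F : LF q b H O W X) (S : SHyp q b O W X) (D : Dat q b O X a c r v) :
    ∃ j, j ≠ 0 ∧ IsC X a j ∧ IsC X c j := by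
  have ha := D.ha
  have hc := D.hc
  have hvr := D.vr F S
  have hca := D.ca F
  have qr := D.qr S
  have qv := D.qv S
  have aself := F.self a
  obtain ⟨j, j0, hj, cj, vj, aj, rj⟩ := F.exists_j S (D.symm F)
  -- `u_c u_a` maps `c` to `r`
  obtain ⟨u, hu, hus⟩ := exists_u D.hr
  obtain ⟨g, hg, hgs⟩ := exists_u D.hv
  have huH := F.X_H a ha u hu
  have hgH := F.X_H c hc g hg
  have uc : u c = c + r := by
    rw [hus, sg, F.comm r c, D.cr, D.ac, qr]; vec2
  have gr : g r = r + c := by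
    rw [hgs, sg, hvr, D.cr]; vec2
  have gc : g c = c := F.X_a c hc g hg
  have guc : (g * u) c = r := by
    rw [mul_app, uc, map_add, gc, gr]; vec2
  have hgu : g * u ∈ H := H.mul_mem hgH huH
  have hrO : r ∈ O := by
    rw [← guc]
    exact F.stable _ hgu c hc
  have guj : (g * u) j = j := by
    rw [mul_app, hus, sg, aj, F.comm r j, F.comm j r, rj]
    have e : j + (0 : ZMod 2) • a + (0 : ZMod 2) • r + (q r * 0) • a = j := by vec2
    rw [e, hgs, sg, cj, vj]; vec2
  have hjr : IsC X r j := by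
    have h1 := F.C_map hc hgu hj
    rwa [guc, guj] at h1
  -- the element of `X c` moving `a` to `a + r`
  obtain ⟨y, hy, ya, yr, yv⟩ := F.exists_x S (D.symm F)
  have hyH := F.X_H c hc y hy
  have D' := D.map F hyH
  rw [ya, yr, yv, F.X_a c hc y hy] at D'
  have h1 := F.C_move S D' hrO j0 (by rw [map_add b, LinearMap.add_apply, aj, rj]; rfl)
    (by rw [map_add b, LinearMap.add_apply, vj, cj]; rfl) hjr
  have e : r + (a + r) = a := by vec2
  rw [e] at h1
  exact ⟨j, j0, h1, hj⟩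

theorem exists_perp_R (F : LF q b H O W X) (hR : ∀ a ∈ O, ∃ r, IsR q b X a r ∧ r ≠ 0 ∧ r ≠ a)
    (ha : a ∈ O) (hca : b c a = 1) : ∃ r, IsR q b X a r ∧ b c r = 0 ∧ r ≠ 0 := by
  obtain ⟨r, hr, h0, h1⟩ := hR a ha
  rcases zm (b c r) with h | h
  · exact ⟨r, hr, h, h0⟩
  · refine ⟨r + a, F.R_add hr (F.R_self ha), by rw [map_add, h, hca]; rfl, fun e => h1 (eq_of_add e)⟩

theorem caseS (F : LF q b H O W X) (hT : TNe b O X) (h2 : Two q b O X)
    (hq : ∀ a ∈ O, ∀ r, IsR q b X a r → q r = 0) (hR : ∀ a ∈ O, ∃ r, IsR q b X a r ∧ r ≠ 0 ∧ r ≠ a)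
    (k1 : ∀ a ∈ O, ∀ c ∈ O, b a c = 1 → ∀ v, IsR q b X c v → b a v = 0 → v ≠ 0 → ¬ IsN b X a v)
    (k2 : ∀ a ∈ O, ∀ c ∈ O, b a c = 1 → ∀ v, IsR q b X c v → b a v = 0 → v ≠ 0 →
      ∀ f ∈ X a, f v = v → f ≠ 1 → f c + c + v ∈ W a)
    (k3 : ∀ a ∈ O, ∀ c ∈ O, b a c = 1 → ∀ v, IsR q b X c v → b a v = 0 → v ≠ 0 →
      ∀ r, IsR q b X a r → r ≠ 0 → r ≠ a → b v r = 1) :
    ∀ a ∈ O, ∀ c ∈ O, b a c = 1 → ∃ j, j ≠ 0 ∧ IsC X a j ∧ IsC X c j := by
  intro a ha c hc hac
  have hca : b c a = 1 := by rw [F.comm]; exact hac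
  obtain ⟨r, hr, cr, r0⟩ := F.exists_perp_R hR ha hca
  obtain ⟨v, hv, av, v0⟩ := F.exists_perp_R hR hc hac
  exact F.caseS_of ⟨hT, h2, hq, k1, k2, k3⟩ ⟨ha, hc, hac, hr, cr, r0, hv, av, v0⟩

end LF

end Cfsg.Agent.Omega.EH3.TwoC

end

section


/-!
# THEOREM 2C (bb OMEGA #12780; helper465, helper316, helper330, helper71)

`TFam.main` : in the linear setting, `X a` not all Siegel ⇒ `RR a = {0, a}` (no nontrivial Siegel element in `X a`).
`cfg` : `Q = 2^(1+2w)`, `w ≥ 5`, `C_G(z)` irreducible on `Q/⟨z⟩`, `p : Pair Q z A a`, not all elements of `p.X`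
Siegel ⇒ helper888's configuration `Cfg` (`d = w`, no Siegel element in `X`).
-/

set_option autoImplicit false

namespace Cfsg.Agent.Omega.EH3.TCL

open Cfsg.Agent.Co2Type.Quad Cfsg.Agent.LargeExtra.Base Cfsg.Agent.LargeExtra.Siegel
open Cfsg.Agent.LargeExtra.SiegFam Cfsg.Agent.LargeExtra.SiegFam.Inst Cfsg.Agent.Omega.EH3
open Cfsg.Agent.LargeExtra.SixInst

namespace TFam

variable {V : Type*} [AddCommGroup V] [Module (ZMod 2) V]
variable {q : V → ZMod 2} {b : LinearMap.BilinForm (ZMod 2) V} {H : Subgroup (V ≃ₗ[ZMod 2] V)} {O : Set V}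
  {W : V → Submodule (ZMod 2) V} {X : V → Subgroup (V ≃ₗ[ZMod 2] V)}

/-- **THEOREM 2C**, linear form -/
theorem main (F : TFam q b H O W X) (hT : ∀ a ∈ O, ∃ x ∈ X a, ¬ XS b X a x) {a : V} (ha : a ∈ O)
    {r : V} (hr : RR q b X a r) : r = 0 ∨ r = a :=
  F.main_of (fun h1 h2 h3 h4 h5 h6 h7 => F.lf.caseS h1 h2 h3 h4 h5 h6 h7) hT ha hr

end TFam

variable {G : Type*} [Group G] {Q A : Subgroup G} {z a : G}

/-- `RR = {0, ã}` for a pair -/
theorem pair_RR [Finite G] (p : Pair Q z A a) (hirr : IrrC p.lz) (hA : ¬ AllSg p) :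
    ∀ r, RR p.lz.q p.lz.b (xfam p) p.va r → r = 0 ∨ r = p.va := fun _ hr =>
  (tFam p hirr).main (exists_not_XS p hA) (va_mem_orb p) hr

/-- **THEOREM 2C**: `T ≠ 0` implies the main case -/
theorem cfg [Finite G] (p : Pair Q z A a) {w : ℕ} (hw : 5 ≤ w) (hQ : Nat.card Q = 2 ^ (2 * w + 1))
    (hirr : IrrC p.lz) (hA : ¬ AllSg p) :
    Cfg (p.H.subtype : p.H →* (p.lz.V ≃ₗ[ZMod 2] p.lz.V)) p.lz.b p.lz.q p.va p.D
      (p.X.subgroupOf p.H) w :=
  of_pair p hw hQ (card_D p hirr (pair_RR p hirr hA) hQ) hirr (noSg p hirr (pair_RR p hirr hA))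

end Cfsg.Agent.Omega.EH3.TCL

end
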